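import Cfsg.Agent.H153.ZerosCo1
import Cfsg.Agent.H153.ZerosCo2
import Cfsg.Agent.H153.ZerosCo3
import Cfsg.Agent.H153.ZerosHS
import Cfsg.Agent.H153.ZerosMcL
import Cfsg.Agent.H153.ZerosSuzOrd
import Cfsg.Agent.H389.NR.Fr

/-!
# S3440: the Conway groups, `McL`, `HS`, `Suz` (helper361)
-/

set_option autoImplicit false

namespace Cfsg.Agent.H361.NR

open Subgroup Cfsg Cfsg.Agent.H389.NR Cfsg.Agent.H92.KTools Cfsg.Agent.H771 Cfsg.Agent.H771.KTools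

theorem fr_co1 {L : Type*} [Group L] [Finite L] (h : Cfsg.Spor.IsoCo1 L) : ¬ Fr L := by
  rintro hF
  obtain ⟨e⟩ := h
  obtain ⟨g, hg⟩ := Cfsg.Agent.H153.Zeros.ord_co1_15
  exact hF.fifteen ⟨e.symm g, by rw [MulEquiv.orderOf_eq, hg]⟩

theorem fr_suz {L : Type*} [Group L] [Finite L] (h : Cfsg.Spor.IsoSuz L) : ¬ Fr L := by
  rintro hF
  obtain ⟨e⟩ := h
  obtain ⟨g, hg⟩ := Cfsg.Agent.H153.Zeros.ord_suz_15
  exact hF.fifteen ⟨e.symm g, by rw [MulEquiv.orderOf_eq, hg]⟩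

theorem fr_mcl {L : Type*} [Group L] [Finite L] (h : Cfsg.Spor.IsoMcL L) : ¬ Fr L := fun hF =>
  hF.fifteen (Cfsg.Agent.H153.Zeros.mcl_orders h 15 (by decide))

theorem fr_hs {L : Type*} [Group L] [Finite L] (h : Cfsg.Spor.IsoHS L) : ¬ Fr L := by
  intro hF
  obtain ⟨g, hg⟩ := Cfsg.Agent.H153.Zeros.hs_ord h Cfsg.Agent.H153.Zeros.hs_twenty
  exact hF.twenty ⟨g, hg⟩

theorem fr_co2 {L : Type*} [Group L] [Finite L] (h : Cfsg.Spor.IsoCo2 L) : ¬ Fr L := by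
  rintro hF
  obtain ⟨e⟩ := h
  have hcard : Nat.card Spor.Co2 = 42305421312000 := Cfsg.Agent.Schreier.CoTwoStab.card
  have hfG : Finite Spor.Co2 := Nat.finite_of_card_ne_zero (by rw [hcard]; norm_num)
  have := Cfsg.Agent.Schreier.CoTwoStab.isSimpleGroup
  obtain ⟨π, hπ, -⟩ := KFacts.CoTwo.Quot.quot KFacts.CoTwo.QuotInst.hyp
  have hfS : Finite SporRec.TwoSp6.Sp.S := Finite.of_surjective π hπ
  obtain ⟨g, hg⟩ : HasOrd Spor.Co2 15 := (KSp6.fifteen.of_surjective π hπ).of_subgroup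
  exact hF.fifteen ⟨e.symm g, by rw [MulEquiv.orderOf_eq, hg]⟩

theorem fr_co3 {L : Type*} [Group L] [Finite L] (h : Cfsg.Spor.IsoCo3 L) : ¬ Fr L := by
  rintro hF
  obtain ⟨e⟩ := h
  have e' : SporRec.Co3.Chain.G3 ≃* Spor.Co3 := SporRec.Co3.Model.equivCo3
  have hcard : Nat.card SporRec.Co3.Chain.G3 = 495766656000 := SporRec.Co3.Chain.isCo3_G3.2
  have hfG : Finite SporRec.Co3.Chain.G3 := Nat.finite_of_card_ne_zero (by rw [hcard]; norm_num)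
  obtain ⟨π, N⟩ := KFacts.Co3D4.exists_NS_G3
  have hfS : Finite SporRec.TwoSp6.Sp.S := Finite.of_surjective π N.surj
  obtain ⟨g, hg⟩ : HasOrd SporRec.Co3.Chain.G3 15 := (KSp6.fifteen.of_surjective π N.surj).of_subgroup
  exact hF.fifteen ⟨e.symm (e' g), by rw [MulEquiv.orderOf_eq, MulEquiv.orderOf_eq, hg]⟩

end Cfsg.Agent.H361.NR
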